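import Cfsg.Agent.EqLemmas
import Cfsg.Agent.Lib.Cores.Basic
import Cfsg.Agent.Lib.Coprime.Basic
import Cfsg.Agent.Lib.Components.Centralize

/-!
# p-constraint and its inheritance by normalizers of p-subgroups

* `IsCharP p G` : `C(O_p(G)) ≤ O_p(G)`
* `isPConstrained_iff` : p-constrained iff the quotient by `O_{p'}` is `IsCharP`
* `IsCharP.of_le`, `IsCharP.pPrimeCore_eq_bot`, `isPConstrained_of_map`, `isPConstrained_congr`
* `isPConstrained_inherit` : p-constraint and `O_{p'}` for subgroups between `C(T)` and `N(T)`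
* `isPConstrained_normalizer`, `isPConstrained_centralizer`, `isPConstrained_of_centralizer`
-/

set_option autoImplicit false

namespace Cfsg.Agent.Constrained

open Subgroup
open scoped Pointwise

variable {G : Type*} [Group G] {p : ℕ}

/-- `C(O_p(G)) ≤ O_p(G)`. -/
def IsCharP (p : ℕ) (G : Type*) [Group G] : Prop :=
  centralizer (Cfsg.pCore p G : Set G) ≤ Cfsg.pCore p G

theorem isCharP_congr {H : Type*} [Group H] (e : G ≃* H) (h : IsCharP p G) : IsCharP p H := by
  intro y hy
  rw [← Cores.pCore_map_mulEquiv e p]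
  refine ⟨e.symm y, h (mem_centralizer_iff.mpr fun u hu => e.injective ?_), by simp⟩
  have hu' : e u ∈ Cfsg.pCore p H := by
    rw [← Cores.pCore_map_mulEquiv e p]; exact mem_map_of_mem _ hu
  simpa using mem_centralizer_iff.mp hy _ hu'

/-- Elements normalizing `T` modulo a `p'`-kernel lift to elements normalizing `T`. -/
theorem exists_mul_mem_normalizer [Finite G] [hp : Fact p.Prime] {O T : Subgroup G} [hOn : O.Normal]
    (hO : ¬ p ∣ Nat.card O) (hT : IsPGroup p T) {x : G} (hx : ∀ u ∈ T, x * u * x⁻¹ ∈ O ⊔ T) :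
    ∃ o ∈ O, o * x ∈ normalizer (T : Set G) := by
  set M := O ⊔ T with hM
  set T' := T.map (MulAut.conj x).toMonoidHom with hT'
  have hT'M : T' ≤ M := by rintro _ ⟨u, hu, rfl⟩; simpa using hx u hu
  obtain ⟨n, hn⟩ := IsPGroup.iff_card.mp hT
  have hT'c : Nat.card T' = Nat.card T :=
    (Nat.card_congr (T.equivMapOfInjective _ (MulAut.conj x).injective).toEquiv).symm
  have hcop : (Nat.card O).Coprime (Nat.card T) := by
    rw [hn]; exact (hp.out.coprime_iff_not_dvd.mpr hO).symm.pow_right n
  have hMc : Nat.card M = Nat.card O * Nat.card T :=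
    Coprime.card_sup_of_coprime (by rw [normalizer_eq_top]; exact le_top) hcop
  have hidx : ∀ U : Subgroup G, U ≤ M → Nat.card U = Nat.card T →
      IsPGroup p (U.subgroupOf M) ∧ ¬ p ∣ (U.subgroupOf M).index := by
    intro U hU hUc
    have hc : Nat.card (U.subgroupOf M) = p ^ n := by rw [Cores.card_subgroupOf hU, hUc, hn]
    refine ⟨IsPGroup.of_card hc, ?_⟩
    have h := (U.subgroupOf M).card_mul_index
    rw [hc, hMc, hn, mul_comm (Nat.card O)] at h
    rw [Nat.eq_of_mul_eq_mul_left (pow_pos hp.out.pos n) h]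
    exact hO
  obtain ⟨h1, h1'⟩ := hidx T le_sup_right rfl
  obtain ⟨h2, h2'⟩ := hidx T' hT'M hT'c
  obtain ⟨⟨m, hm⟩, hconj⟩ := MulAction.exists_smul_eq (↥M) (h2.toSylow h2') (h1.toSylow h1')
  obtain ⟨t, ht, o, ho, rfl⟩ := mem_sup_of_normal_right.mp (show m ∈ T ⊔ O by rw [sup_comm]; exact hm)
  refine ⟨o, ho, Coprime.mem_normalizer_of_forall fun u hu => ?_⟩
  have hu' : (⟨x * u * x⁻¹, hx u hu⟩ : ↥M) ∈ T'.subgroupOf M :=
    mem_subgroupOf.mpr ⟨u, hu, by simp⟩
  have h3 : MulAut.conj (⟨t * o, hm⟩ : ↥M) ⟨x * u * x⁻¹, hx u hu⟩ ∈ T.subgroupOf M := by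
    have := congrArg (fun P : Sylow p ↥M => (P : Subgroup ↥M)) hconj
    simp only [Sylow.smul_def, Sylow.coe_smul, IsPGroup.toSylow_coe] at this
    rw [← this]
    exact ⟨_, hu', rfl⟩
  rw [mem_subgroupOf] at h3
  have h4 := mul_mem (mul_mem (inv_mem ht) h3) ht
  have e : t⁻¹ * ((MulAut.conj (⟨t * o, hm⟩ : ↥M) ⟨x * u * x⁻¹, hx u hu⟩ : ↥M) : G) * t
      = o * x * u * (o * x)⁻¹ := by
    simp only [MulAut.conj_apply, Subgroup.coe_mul, Subgroup.coe_inv]
    group
  rwa [e] at h4

/-- Elements centralizing `T` modulo a `p'`-kernel lift to elements centralizing `T`. -/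
theorem exists_mul_mem_centralizer [Finite G] [hp : Fact p.Prime] {O T : Subgroup G} [hOn : O.Normal]
    (hO : ¬ p ∣ Nat.card O) (hT : IsPGroup p T) {x : G} (hx : ∀ u ∈ T, x * u * x⁻¹ * u⁻¹ ∈ O) :
    ∃ o ∈ O, o * x ∈ centralizer (T : Set G) := by
  obtain ⟨o, ho, hn⟩ := exists_mul_mem_normalizer hO hT (x := x) fun u hu => by
    have := mul_mem_sup (hx u hu) hu
    simpa using this
  refine ⟨o, ho, mem_centralizer_iff.mpr fun u hu => ?_⟩
  set w := o * x * u * (o * x)⁻¹ * u⁻¹ with hw
  have h1 : w ∈ T := mul_mem ((mem_normalizer_iff.mp hn u).mp hu) (inv_mem hu)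
  have h2 : w ∈ O := by
    have e : w = o * (x * u * x⁻¹ * u⁻¹) * (u * o⁻¹ * u⁻¹) := by rw [hw]; group
    rw [e]
    exact mul_mem (mul_mem ho (hx u hu)) (hOn.conj_mem _ (inv_mem ho) u)
  obtain ⟨n, hcard⟩ := IsPGroup.iff_card.mp hT
  have h3 : w = 1 := Coprime.eq_one_of_mem_of_mem
    (by rw [hcard]; exact (hp.out.coprime_iff_not_dvd.mpr hO).pow_left n) h1 h2
  rw [hw, mul_inv_eq_one, mul_inv_eq_iff_eq_mul] at h3
  exact h3.symm

theorem IsCharP.pPrimeCore_eq_bot [Finite G] [Fact p.Prime] (h : IsCharP p G) :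
    Cfsg.pPrimeCore p G = ⊥ := by
  refine le_bot_iff.mp ?_
  rw [← disjoint_iff.mp (Cores.disjoint_pCore_pPrimeCore (G := G) (p := p))]
  refine le_inf ?_ le_rfl
  intro y hy
  exact h (mem_centralizer_iff.mpr fun x hx => (Cores.pCore_pPrimeCore_commute hx hy).eq)

/-- A `p'`-element centralizing a `p`-subgroup `T` and `C(T) ∩ O_p` is trivial. -/
theorem IsCharP.eq_one [Finite G] [hp : Fact p.Prime] (h : IsCharP p G) {T : Subgroup G}
    (hT : IsPGroup p T) {d : G} (hd : (orderOf d).Coprime p) (hdT : d ∈ centralizer (T : Set G))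
    (hdC : ∀ y ∈ Cfsg.pCore p G, y ∈ centralizer (T : Set G) → d * y = y * d) : d = 1 := by
  have hP := h (Components.mem_centralizer_of_mem_centralizer hT (Cores.isPGroup_pCore p G)
    (by rw [normalizer_eq_top]; exact le_top) hd (by rw [normalizer_eq_top]; exact mem_top d) hdT hdC)
  obtain ⟨k, hk⟩ := Cores.isPGroup_pCore p G ⟨d, hP⟩
  have h1 : orderOf d ∣ p ^ k := orderOf_dvd_of_pow_eq_one (congrArg Subtype.val hk)
  exact orderOf_eq_one_iff.mp (Nat.eq_one_of_dvd_coprimes (hd.pow_right k) dvd_rfl h1)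

/-- `C(O_p) ≤ O_p` is inherited by subgroups of `N(T)` containing `C(T) ∩ O_p`. -/
theorem IsCharP.of_le [Finite G] [hp : Fact p.Prime] (h : IsCharP p G) {T N : Subgroup G}
    (hT : IsPGroup p T) (hN : N ≤ normalizer (T : Set G))
    (hor : T ≤ N ∨ N ≤ centralizer (T : Set G))
    (hCN : Cfsg.pCore p G ⊓ centralizer (T : Set G) ≤ N) : IsCharP p ↥N := by
  set U := (Cfsg.pCore p G ⊓ centralizer (T : Set G)).subgroupOf N with hU
  have hUn : U.Normal := ⟨fun u hu g => by
    rw [mem_subgroupOf] at hu ⊢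
    refine ⟨(Cores.pCore_normal p G).conj_mem _ hu.1 g, mem_centralizer_iff.mpr fun y hy => ?_⟩
    have hy' : (g : G)⁻¹ * y * g ∈ (T : Set G) :=
      (mem_normalizer_iff''.mp (hN g.2) y).mp hy
    have := mem_centralizer_iff.mp hu.2 _ hy'
    simp only [coe_mul, coe_inv]
    calc y * ((g : G) * u * (g : G)⁻¹) = g * (((g : G)⁻¹ * y * g) * u) * (g : G)⁻¹ := by group
      _ = g * u * (g : G)⁻¹ * y := by rw [this]; group⟩
  have hUle : U ≤ Cfsg.pCore p ↥N :=
    Cores.le_pCore hUn (((Cores.isPGroup_pCore p G).to_le inf_le_left).comap_subtype)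
  set D := centralizer (Cfsg.pCore p ↥N : Set ↥N) with hD
  have hDT : ∀ d ∈ D, (d : G) ∈ centralizer (T : Set G) := by
    intro d hd
    rcases hor with hTN | hNC
    · refine mem_centralizer_iff.mpr fun y hy => ?_
      have hTle : T.subgroupOf N ≤ Cfsg.pCore p ↥N :=
        Cores.le_pCore (Cores.subgroupOf_normal_of_le_normalizer hN) hT.comap_subtype
      exact congrArg Subtype.val
        (mem_centralizer_iff.mp hd ⟨y, hTN hy⟩ (hTle (mem_subgroupOf.mpr hy)))
    · exact hNC d.2
  have hDp : IsPGroup p ↥D := by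
    rintro ⟨d, hd⟩
    obtain ⟨k, hk⟩ := Components.exists_pow_coprime (p := p) (d : G)
    refine ⟨k, Subtype.ext (Subtype.ext ?_)⟩
    simp only [SubmonoidClass.coe_pow, OneMemClass.coe_one]
    refine h.eq_one hT hk (pow_mem (hDT d hd) _) fun y hy hyC => ?_
    have hyU : (⟨y, hCN ⟨hy, hyC⟩⟩ : ↥N) ∈ U := mem_subgroupOf.mpr ⟨hy, hyC⟩
    exact (congrArg Subtype.val (mem_centralizer_iff.mp (pow_mem hd (p ^ k)) _ (hUle hyU))).symm
  exact Cores.le_pCore inferInstance hDp

/-! ### p-constrained groups -/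

theorem isPConstrained_iff [Finite G] [hp : Fact p.Prime] :
    Cfsg.IsPConstrained p G ↔ IsCharP p (G ⧸ Cfsg.pPrimeCore p G) := by
  set O := Cfsg.pPrimeCore p G with hO
  set q := QuotientGroup.mk' O with hq
  set M := Cfsg.pPrimePCore p G with hM
  have hMdef : M = (Cfsg.pCore p (G ⧸ O)).comap q := rfl
  have hOM : O ≤ M := fun x hx => by
    rw [hMdef, mem_comap, hq, QuotientGroup.mk'_apply, (QuotientGroup.eq_one_iff x).mpr hx]
    exact one_mem _
  have key : ∀ P : Sylow p ↥M,
      ((P : Subgroup ↥M).map M.subtype).map q = Cfsg.pCore p (G ⧸ O) := by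
    intro P
    set P' := (P : Subgroup ↥M).map M.subtype with hP'
    have hsup : O ⊔ P' = M := by
      refine le_antisymm (sup_le hOM (map_subtype_le _)) ?_
      intro x hx
      set N := O.subgroupOf M ⊔ (P : Subgroup ↥M) with hN
      have h1 : ¬ p ∣ N.index := fun hd =>
        P.not_dvd_index (hd.trans (index_dvd_of_le le_sup_right))
      have h2 : ∃ k, (O.subgroupOf M).index = p ^ k := by
        obtain ⟨k, hk⟩ := IsPGroup.iff_card.mp (Cores.isPGroup_pCore p (G ⧸ O))
        refine ⟨k, ?_⟩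
        rw [← hk]
        have hmap : M.map q = Cfsg.pCore p (G ⧸ O) :=
          map_comap_eq_self_of_surjective (QuotientGroup.mk'_surjective O) _
        rw [← hmap, ← relIndex_ker, QuotientGroup.ker_mk']
        rfl
      obtain ⟨k, hk⟩ := h2
      obtain ⟨j, -, hj⟩ := (Nat.dvd_prime_pow hp.out).mp
        (hk ▸ index_dvd_of_le (le_sup_left : O.subgroupOf M ≤ N))
      have hj0 : j = 0 := by
        by_contra h
        exact h1 (hj ▸ dvd_pow_self p h)
      rw [hj0, pow_zero, index_eq_one] at hj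
      have hxN : (⟨x, hx⟩ : ↥M) ∈ N := by rw [hN, hj]; exact mem_top _
      have := mem_map_of_mem M.subtype hxN
      rw [hN, Subgroup.map_sup, subgroupOf_map_subtype] at this
      exact (sup_le_sup_right (inf_le_left : O ⊓ M ≤ O) P') this
    have := congrArg (fun K : Subgroup G => K.map q) hsup
    simp only [Subgroup.map_sup] at this
    rw [(Subgroup.map_eq_bot_iff O).mpr (by rw [hq, QuotientGroup.ker_mk']), bot_sup_eq] at this
    rw [this]
    exact map_comap_eq_self_of_surjective (QuotientGroup.mk'_surjective O) _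
  constructor
  · intro h
    intro x hx
    obtain ⟨x, rfl⟩ := QuotientGroup.mk'_surjective O x
    obtain ⟨P⟩ : Nonempty (Sylow p ↥M) := inferInstance
    set P' := (P : Subgroup ↥M).map M.subtype with hP'
    obtain ⟨o, ho, hox⟩ := exists_mul_mem_centralizer (O := O) (Cores.not_dvd_card_pPrimeCore)
      (P.isPGroup'.map M.subtype) (x := x) fun u hu => by
        have hu' : q u ∈ Cfsg.pCore p (G ⧸ O) := key P ▸ mem_map_of_mem q hu
        rw [← QuotientGroup.eq_one_iff]
        show q (x * u * x⁻¹ * u⁻¹) = 1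
        rw [map_mul, map_mul, map_mul, ← mem_centralizer_iff.mp hx _ hu', map_inv, map_inv]
        simp only [hq]
        group
    have hxM : x ∈ M := by simpa using mul_mem (inv_mem (hOM ho)) (h P hox)
    exact hxM
  · intro h P y hy
    show q y ∈ Cfsg.pCore p (G ⧸ O)
    refine h (mem_centralizer_iff.mpr fun u hu => ?_)
    rw [← key P] at hu
    obtain ⟨u, hu, rfl⟩ := hu
    rw [← map_mul, ← map_mul, mem_centralizer_iff.mp hy u hu]

/-- A preimage of a group with `C(O_p) ≤ O_p` under a map with `p'`-kernel is p-constrained. -/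
theorem isPConstrained_of_map [Finite G] [hp : Fact p.Prime] {K : Type*} [Group K] (f : G →* K)
    (hf : Function.Surjective f) (hker : ¬ p ∣ Nat.card f.ker) (hK : IsCharP p K) :
    Cfsg.IsPConstrained p G ∧ Cfsg.pPrimeCore p G = f.ker := by
  haveI : Finite K := Finite.of_surjective f hf
  have hcop : (Nat.card f.ker).Coprime p := (hp.out.coprime_iff_not_dvd.mpr hker).symm
  have heq : Cfsg.pPrimeCore p G = f.ker :=
    le_antisymm ((Subgroup.map_eq_bot_iff _).mp (le_bot_iff.mp
      ((Cores.map_pPrimeCore_le f hf p).trans_eq hK.pPrimeCore_eq_bot)))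
      (Cores.le_pPrimeCore inferInstance hcop)
  exact ⟨isPConstrained_iff.mpr (isCharP_congr
    ((QuotientGroup.quotientMulEquivOfEq heq).trans
      (QuotientGroup.quotientKerEquivOfSurjective f hf)).symm hK), heq⟩

theorem isPConstrained_congr [Finite G] [hp : Fact p.Prime] {H : Type*} [Group H] (e : G ≃* H)
    (h : Cfsg.IsPConstrained p G) : Cfsg.IsPConstrained p H := by
  haveI : Finite H := Finite.of_equiv G e.toEquiv
  set f := (QuotientGroup.mk' (Cfsg.pPrimeCore p G)).comp e.symm.toMonoidHom with hf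
  refine (isPConstrained_of_map f ((QuotientGroup.mk'_surjective _).comp e.symm.surjective) ?_
    (isPConstrained_iff.mp h)).1
  rw [hf, ← MonoidHom.comap_ker, QuotientGroup.ker_mk']
  rw [show Nat.card ((Cfsg.pPrimeCore p G).comap e.symm.toMonoidHom) = Nat.card (Cfsg.pPrimeCore p G) from
    Nat.card_congr (((Cfsg.pPrimeCore p G).comap e.symm.toMonoidHom).equivMapOfInjective
      e.symm.toMonoidHom e.symm.injective |>.toEquiv.trans (Equiv.setCongr (congrArg _
        (map_comap_eq_self_of_surjective e.symm.surjective _))))]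
  exact Cores.not_dvd_card_pPrimeCore

theorem isCharP_iff [Finite G] [hp : Fact p.Prime] :
    IsCharP p G ↔ Cfsg.IsPConstrained p G ∧ Cfsg.pPrimeCore p G = ⊥ := by
  constructor
  · intro h
    refine ⟨(isPConstrained_of_map (MonoidHom.id G) Function.surjective_id ?_ h).1,
      h.pPrimeCore_eq_bot⟩
    rw [MonoidHom.ker_id, card_bot]
    exact hp.out.not_dvd_one
  · rintro ⟨h1, h2⟩
    exact isCharP_congr ((QuotientGroup.quotientMulEquivOfEq h2).trans QuotientGroup.quotientBot)
      (isPConstrained_iff.mp h1)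

/-- p-constraint and `O_{p'}` for subgroups between `C(T)` and `N(T)`. -/
theorem isPConstrained_inherit [Finite G] [hp : Fact p.Prime] (h : Cfsg.IsPConstrained p G)
    {T N : Subgroup G} (hT : IsPGroup p T) (hN : N ≤ normalizer (T : Set G))
    (hor : T ≤ N ∨ N ≤ centralizer (T : Set G)) (hC : centralizer (T : Set G) ≤ N) :
    Cfsg.IsPConstrained p ↥N ∧
      (Cfsg.pPrimeCore p ↥N).map N.subtype = Cfsg.pPrimeCore p G ⊓ N := by
  set O := Cfsg.pPrimeCore p G with hO
  set q := QuotientGroup.mk' O with hq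
  have hchar : IsCharP p ↥(N.map q) := by
    refine (isPConstrained_iff.mp h).of_le (hT.map q) ?_ ?_ ?_
    · exact (map_mono hN).trans (le_normalizer_map q)
    · rcases hor with h1 | h1
      · exact Or.inl (map_mono h1)
      · refine Or.inr ?_
        rintro _ ⟨x, hx, rfl⟩
        refine mem_centralizer_iff.mpr ?_
        rintro _ ⟨u, hu, rfl⟩
        rw [← map_mul, ← map_mul, mem_centralizer_iff.mp (h1 hx) u hu]
    · rintro y ⟨-, hy⟩
      obtain ⟨x, rfl⟩ := QuotientGroup.mk'_surjective O y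
      obtain ⟨o, ho, hox⟩ := exists_mul_mem_centralizer (O := O) Cores.not_dvd_card_pPrimeCore hT
        (x := x) fun u hu => by
          rw [← QuotientGroup.eq_one_iff]
          show q (x * u * x⁻¹ * u⁻¹) = 1
          rw [map_mul, map_mul, map_mul, ← mem_centralizer_iff.mp hy _ (mem_map_of_mem q hu),
            map_inv, map_inv]
          simp only [hq]
          group
      refine ⟨o * x, hC hox, ?_⟩
      rw [map_mul, (show q o = 1 from (QuotientGroup.eq_one_iff o).mpr ho), one_mul]
  have hkereq : (q.subgroupMap N).ker = O.subgroupOf N := by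
    ext x
    rw [MonoidHom.mem_ker, Subtype.ext_iff, mem_subgroupOf]
    exact QuotientGroup.eq_one_iff _
  have hker : ¬ p ∣ Nat.card (q.subgroupMap N).ker := by
    rw [hkereq, ← Cores.card_map_subtype, subgroupOf_map_subtype]
    exact fun hd => Cores.not_dvd_card_pPrimeCore (hd.trans (card_dvd_of_le inf_le_left))
  obtain ⟨h1, h2⟩ :=
    isPConstrained_of_map (q.subgroupMap N) (MonoidHom.subgroupMap_surjective q N) hker hchar
  exact ⟨h1, by rw [h2, hkereq, subgroupOf_map_subtype]⟩

theorem isPConstrained_normalizer [Finite G] [Fact p.Prime] (h : Cfsg.IsPConstrained p G)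
    {T : Subgroup G} (hT : IsPGroup p T) :
    Cfsg.IsPConstrained p ↥(normalizer (T : Set G)) :=
  (isPConstrained_inherit h hT le_rfl (Or.inl le_normalizer) (centralizer_le_normalizer _)).1

theorem isPConstrained_centralizer [Finite G] [Fact p.Prime] (h : Cfsg.IsPConstrained p G)
    {T : Subgroup G} (hT : IsPGroup p T) :
    Cfsg.IsPConstrained p ↥(centralizer (T : Set G)) :=
  (isPConstrained_inherit h hT (centralizer_le_normalizer _) (Or.inr le_rfl) le_rfl).1

/-- A group with a normal p-subgroup whose centralizer is p-constrained is p-constrained. -/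
theorem isPConstrained_of_normal_centralizer [Finite G] [hp : Fact p.Prime] {T : Subgroup G}
    [hTn : T.Normal] (hT : IsPGroup p T) (h : Cfsg.IsPConstrained p ↥(centralizer (T : Set G))) :
    Cfsg.IsPConstrained p G := by
  set C := centralizer (T : Set G) with hC
  haveI hCn : C.Normal := inferInstance
  set O := Cfsg.pPrimeCore p G with hO
  set q := QuotientGroup.mk' O with hq
  have hTO : T ≤ Cfsg.pCore p G := Cores.le_pCore hTn hT
  have hOC : O ≤ C := fun y hy =>
    mem_centralizer_iff.mpr fun x hx => (Cores.pCore_pPrimeCore_commute (hTO hx) hy).eq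
  haveI : (C.map q).Normal := hCn.map q (QuotientGroup.mk'_surjective O)
  have hkereq : (q.subgroupMap C).ker = Cfsg.pPrimeCore p ↥C := by
    apply map_injective C.subtype_injective
    rw [Cores.pPrimeCore_map_subtype]
    ext x
    constructor
    · rintro ⟨y, hy, rfl⟩
      rw [SetLike.mem_coe, MonoidHom.mem_ker, Subtype.ext_iff] at hy
      exact ⟨(QuotientGroup.eq_one_iff _).mp hy, y.2⟩
    · rintro ⟨hx1, hx2⟩
      exact ⟨⟨x, hx2⟩, Subtype.ext ((QuotientGroup.eq_one_iff _).mpr hx1), rfl⟩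
  have hchar : IsCharP p ↥(C.map q) :=
    isCharP_congr ((QuotientGroup.quotientMulEquivOfEq hkereq.symm).trans
      (QuotientGroup.quotientKerEquivOfSurjective _ (MonoidHom.subgroupMap_surjective q C)))
      (isPConstrained_iff.mp h)
  rw [isPConstrained_iff]
  intro y hy
  have hyC : y ∈ C.map q := by
    obtain ⟨x, rfl⟩ := QuotientGroup.mk'_surjective O y
    obtain ⟨o, ho, hox⟩ := exists_mul_mem_centralizer (O := O) Cores.not_dvd_card_pPrimeCore hT
      (x := x) fun u hu => by
        have hu' : q u ∈ Cfsg.pCore p (G ⧸ O) :=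
          Cores.map_pCore_le q (QuotientGroup.mk'_surjective O) p (mem_map_of_mem q (hTO hu))
        rw [← QuotientGroup.eq_one_iff]
        show q (x * u * x⁻¹ * u⁻¹) = 1
        rw [map_mul, map_mul, map_mul, ← mem_centralizer_iff.mp hy _ hu', map_inv, map_inv]
        simp only [hq]
        group
    refine ⟨o * x, hox, ?_⟩
    rw [map_mul, (show q o = 1 from (QuotientGroup.eq_one_iff o).mpr ho), one_mul]
  have hmem : (⟨y, hyC⟩ : ↥(C.map q)) ∈ centralizer (Cfsg.pCore p ↥(C.map q) : Set ↥(C.map q)) := by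
    refine mem_centralizer_iff.mpr fun u hu => Subtype.ext ?_
    have hu' : (u : G ⧸ O) ∈ Cfsg.pCore p (G ⧸ O) ⊓ C.map q :=
      Cores.pCore_map_subtype (C.map q) p ▸ mem_map_of_mem (C.map q).subtype hu
    exact mem_centralizer_iff.mp hy _ hu'.1
  have h5 : y ∈ Cfsg.pCore p (G ⧸ O) ⊓ C.map q :=
    Cores.pCore_map_subtype (C.map q) p ▸ mem_map_of_mem (C.map q).subtype (hchar hmem)
  exact h5.1

/-- If `C(T)` is p-constrained then so is `N(T)`. -/
theorem isPConstrained_of_centralizer [Finite G] [hp : Fact p.Prime] {T : Subgroup G}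
    (hT : IsPGroup p T) (h : Cfsg.IsPConstrained p ↥(centralizer (T : Set G))) :
    Cfsg.IsPConstrained p ↥(normalizer (T : Set G)) := by
  set N := normalizer (T : Set G) with hN
  haveI : (T.subgroupOf N).Normal := Cores.subgroupOf_normal_of_le_normalizer le_rfl
  refine isPConstrained_of_normal_centralizer (T := T.subgroupOf N) hT.comap_subtype ?_
  have heq : (centralizer (T : Set G)).subgroupOf N =
      centralizer (T.subgroupOf N : Set ↥N) := by
    ext x
    simp only [mem_subgroupOf, mem_centralizer_iff]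
    constructor
    · intro hx y hy
      exact Subtype.ext (hx _ hy)
    · intro hx y hy
      exact congrArg Subtype.val (hx ⟨y, le_normalizer hy⟩ hy)
  exact isPConstrained_congr
    ((subgroupOfEquivOfLe (centralizer_le_normalizer _)).symm.trans (MulEquiv.subgroupCongr heq)) h

end Cfsg.Agent.Constrained
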